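import Mathlib

/-!
# Finiteness of the valuation subrings of a finite extension lying over a given one

For a valuation subring `V` of a field `K` and a finite extension `L / K`, there are at most
`[L : K]` valuation subrings `A` of `L` with `A ∩ K = V`.
-/

set_option autoImplicit false
set_option linter.unusedSectionVars false
set_option linter.unusedVariables false
set_option linter.style.longLine false
set_option maxHeartbeats 800000
set_option synthInstance.maxHeartbeats 400000

open scoped Polynomial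

namespace Groth.Agent.Lib.Helper6.ValFin

section Alg

variable {K L : Type*} [Field K] [Field L] [Algebra K L]

/-- The valuation subrings of `L` lying over `V`. -/
def Over (V : ValuationSubring K) : Set (ValuationSubring L) :=
  {A | ∀ x : K, algebraMap K L x ∈ A ↔ x ∈ V}

variable {V : ValuationSubring K} {A : ValuationSubring L}

theorem over_le_one (hA : A ∈ Over (L := L) V) (x : K) :
    A.valuation (algebraMap K L x) ≤ 1 ↔ V.valuation x ≤ 1 := by
  rw [ValuationSubring.valuation_le_one_iff, ValuationSubring.valuation_le_one_iff]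
  exact hA x

theorem over_lt_one (hA : A ∈ Over (L := L) V) (x : K) :
    A.valuation (algebraMap K L x) < 1 ↔ V.valuation x < 1 := by
  by_cases hx : x = 0
  · subst hx
    simp
  · have h1 := over_le_one hA x⁻¹
    rw [map_inv₀, map_inv₀, map_inv₀] at h1
    have hax : A.valuation (algebraMap K L x) ≠ 0 :=
      (Valuation.ne_zero_iff _).mpr ((map_ne_zero _).mpr hx)
    have hvx : V.valuation x ≠ 0 := (Valuation.ne_zero_iff _).mpr hx
    rw [inv_le_one₀ (zero_lt_iff.mpr hax), inv_le_one₀ (zero_lt_iff.mpr hvx)] at h1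
    rw [← not_le, ← not_le, h1]

theorem over_eq_one (hA : A ∈ Over (L := L) V) (x : K) :
    A.valuation (algebraMap K L x) = 1 ↔ V.valuation x = 1 := by
  rw [eq_iff_le_not_lt, eq_iff_le_not_lt, over_le_one hA, over_lt_one hA]

theorem exists_primitive_relation [FiniteDimensional K L] (V : ValuationSubring K) (y : L) :
    ∃ (n : ℕ) (a : ℕ → K), (∀ i, a i ∈ V) ∧
      (∑ i ∈ Finset.range (n + 1), algebraMap K L (a i) * y ^ i = 0) ∧
      ∃ j, j ≤ n ∧ V.valuation (a j) = 1 := by
  obtain ⟨P, hP0, hPy⟩ := (Algebra.IsAlgebraic.isAlgebraic (R := K) y)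
  obtain ⟨i₀, hi₀, hmax⟩ := Finset.exists_max_image (Finset.range (P.natDegree + 1))
    (fun i => V.valuation (P.coeff i)) ⟨0, by simp⟩
  have hc : P.coeff i₀ ≠ 0 := by
    intro h0
    have h1 := hmax P.natDegree (by simp)
    simp only [h0, map_zero] at h1
    have h2 : V.valuation P.leadingCoeff = 0 := le_antisymm h1 zero_le
    rw [Valuation.zero_iff] at h2
    exact hP0 (Polynomial.leadingCoeff_eq_zero.mp h2)
  refine ⟨P.natDegree, fun i => P.coeff i / P.coeff i₀, ?_, ?_, i₀, ?_, ?_⟩
  · intro i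
    rw [← ValuationSubring.valuation_le_one_iff, map_div₀]
    by_cases hi : i ∈ Finset.range (P.natDegree + 1)
    · exact div_le_one_of_le₀ (hmax i hi) zero_le
    · have hi' : P.natDegree < i := by
        rw [Finset.mem_range] at hi
        omega
      have : P.coeff i = 0 := Polynomial.coeff_eq_zero_of_natDegree_lt hi'
      rw [this, map_zero, zero_div]
      exact zero_le_one
  · rw [Polynomial.aeval_eq_sum_range] at hPy
    have : ∑ i ∈ Finset.range (P.natDegree + 1),
          algebraMap K L (P.coeff i / P.coeff i₀) * y ^ i =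
        algebraMap K L (P.coeff i₀)⁻¹ *
          ∑ i ∈ Finset.range (P.natDegree + 1), P.coeff i • y ^ i := by
      rw [Finset.mul_sum]
      refine Finset.sum_congr rfl fun i _ => ?_
      rw [Algebra.smul_def, div_eq_mul_inv, map_mul]
      ring
    rw [this, hPy, mul_zero]
  · exact Nat.lt_succ_iff.mp (Finset.mem_range.mp hi₀)
  · show V.valuation (P.coeff i₀ / P.coeff i₀) = 1
    rw [div_self hc, map_one]

theorem exists_T [FiniteDimensional K L] (V : ValuationSubring K) (y : L) (hy : y ≠ 0) :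
    ∃ T : L, ∀ A ∈ Over (L := L) V,
      (A.valuation y < 1 → A.valuation T = 1) ∧ (1 ≤ A.valuation y → A.valuation T < 1) := by
  classical
  obtain ⟨n, a, haV, hrel, hex⟩ := exists_primitive_relation (L := L) V y
  have hex' : ∃ j, V.valuation (a j) = 1 := let ⟨j, _, h⟩ := hex; ⟨j, h⟩
  have hj1 : V.valuation (a (Nat.find hex')) = 1 := Nat.find_spec hex'
  have hjn : Nat.find hex' ≤ n := by
    obtain ⟨j', hj'n, hj'⟩ := hex
    exact (Nat.find_min' hex' hj').trans hj'n
  have hjmin : ∀ i < Nat.find hex', V.valuation (a i) < 1 := fun i hi =>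
    lt_of_le_of_ne ((V.valuation_le_one_iff _).mpr (haV i)) (Nat.find_min hex' hi)
  generalize Nat.find hex' = j at hj1 hjn hjmin
  obtain ⟨m, hm⟩ : ∃ m, n + 1 = j + (m + 1) := ⟨n - j, by omega⟩
  have hsplit : ∑ i ∈ Finset.range j, algebraMap K L (a i) * y ^ i +
      y ^ j * (∑ i ∈ Finset.range (m + 1), algebraMap K L (a (j + i)) * y ^ i) = 0 := by
    rw [← hrel, hm, Finset.sum_range_add _ j (m + 1), Finset.mul_sum]
    congr 1
    refine Finset.sum_congr rfl fun i _ => ?_
    rw [pow_add]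
    ring
  have hT' : (∑ i ∈ Finset.range (m + 1), algebraMap K L (a (j + i)) * y ^ i) =
      - ∑ i ∈ Finset.range j, algebraMap K L (a i) * (y⁻¹) ^ (j - i) := by
    have h1 : y ^ j * (∑ i ∈ Finset.range (m + 1), algebraMap K L (a (j + i)) * y ^ i) =
        - ∑ i ∈ Finset.range j, algebraMap K L (a i) * y ^ i :=
      eq_neg_of_add_eq_zero_right hsplit
    have h2 : (∑ i ∈ Finset.range (m + 1), algebraMap K L (a (j + i)) * y ^ i) =
        (y⁻¹) ^ j * (y ^ j * (∑ i ∈ Finset.range (m + 1), algebraMap K L (a (j + i)) * y ^ i)) := by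
      rw [← mul_assoc, ← mul_pow, inv_mul_cancel₀ hy, one_pow, one_mul]
    rw [h2, h1, mul_neg, Finset.mul_sum]
    congr 1
    refine Finset.sum_congr rfl fun i hi => ?_
    have hij : i < j := Finset.mem_range.mp hi
    have h4 : (y⁻¹) ^ j = (y⁻¹) ^ (j - i) * (y⁻¹) ^ i := by
      rw [← pow_add]
      congr 1
      omega
    rw [h4]
    have h3 : (y⁻¹) ^ i * y ^ i = 1 := by rw [← mul_pow, inv_mul_cancel₀ hy, one_pow]
    calc (y⁻¹) ^ (j - i) * (y⁻¹) ^ i * (algebraMap K L (a i) * y ^ i)
        = algebraMap K L (a i) * (y⁻¹) ^ (j - i) * ((y⁻¹) ^ i * y ^ i) := by ring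
      _ = _ := by rw [h3, mul_one]
  refine ⟨∑ i ∈ Finset.range (m + 1), algebraMap K L (a (j + i)) * y ^ i,
    fun A hA => ⟨fun hylt => ?_, fun hyge => ?_⟩⟩
  · rw [Finset.sum_range_succ', add_zero, pow_zero, mul_one]
    have h1 : A.valuation (algebraMap K L (a j)) = 1 := (over_eq_one hA _).mpr hj1
    have h2 : A.valuation
        (∑ i ∈ Finset.range m, algebraMap K L (a (j + (i + 1))) * y ^ (i + 1)) < 1 := by
      refine Valuation.map_sum_lt _ one_ne_zero fun i _ => ?_
      rw [map_mul, map_pow]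
      have h3 : A.valuation (algebraMap K L (a (j + (i + 1)))) ≤ 1 :=
        (over_le_one hA _).mpr ((V.valuation_le_one_iff _).mpr (haV _))
      have h4 : A.valuation y ^ (i + 1) < 1 := pow_lt_one₀ zero_le hylt (Nat.succ_ne_zero i)
      exact (mul_le_of_le_one_left' h3).trans_lt h4
    rw [Valuation.map_add_eq_of_lt_right _ (by rw [h1]; exact h2), h1]
  · rw [hT', Valuation.map_neg]
    refine Valuation.map_sum_lt _ one_ne_zero fun i hi => ?_
    have hij : i < j := Finset.mem_range.mp hi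
    rw [map_mul, map_pow, map_inv₀]
    have h3 : A.valuation (algebraMap K L (a i)) < 1 := (over_lt_one hA _).mpr (hjmin i hij)
    have h4 : (A.valuation y)⁻¹ ^ (j - i) ≤ 1 :=
      pow_le_one₀ zero_le (inv_le_one_of_one_le₀ hyge)
    exact (mul_le_of_le_one_right' h4).trans_lt h3

theorem over_incomparable [FiniteDimensional K L] {V : ValuationSubring K}
    {A₁ A₂ : ValuationSubring L} (h₁ : A₁ ∈ Over (L := L) V) (h₂ : A₂ ∈ Over (L := L) V)
    (hle : A₁ ≤ A₂) : A₂ ≤ A₁ := by
  intro x hx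
  by_contra hx1
  have hx0 : x ≠ 0 := fun h => hx1 (h ▸ A₁.zero_mem)
  have hy0 : x⁻¹ ≠ 0 := inv_ne_zero hx0
  obtain ⟨T, hT⟩ := exists_T (L := L) V x⁻¹ hy0
  have hv1 : 1 < A₁.valuation x := by
    rw [← not_le, ValuationSubring.valuation_le_one_iff]
    exact hx1
  have hv1' : A₁.valuation x⁻¹ < 1 := by
    rw [map_inv₀]
    exact inv_lt_one_of_one_lt₀ hv1
  have hv2 : A₂.valuation x ≤ 1 := (A₂.valuation_le_one_iff _).mpr hx
  have hv2pos : 0 < A₂.valuation x := zero_lt_iff.mpr ((Valuation.ne_zero_iff _).mpr hx0)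
  have hv2' : 1 ≤ A₂.valuation x⁻¹ := by
    rw [map_inv₀]
    exact (one_le_inv₀ hv2pos).mpr hv2
  have hT1 : A₁.valuation T = 1 := (hT A₁ h₁).1 hv1'
  have hT2 : A₂.valuation T < 1 := (hT A₂ h₂).2 hv2'
  have hT0 : T ≠ 0 := fun h => by
    rw [h, map_zero] at hT1
    exact zero_ne_one hT1
  have hTpos : 0 < A₂.valuation T := zero_lt_iff.mpr ((Valuation.ne_zero_iff _).mpr hT0)
  have hn2 : ¬ (T⁻¹ ∈ A₂) := by
    rw [← ValuationSubring.valuation_le_one_iff, map_inv₀, not_le]
    exact (one_lt_inv₀ hTpos).mpr hT2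
  have hn1 : T⁻¹ ∈ A₁ := by
    rw [← ValuationSubring.valuation_le_one_iff, map_inv₀, hT1, inv_one]
  exact hn2 (hle hn1)

theorem exists_sep [FiniteDimensional K L] {V : ValuationSubring K}
    {A₁ A₂ : ValuationSubring L} (h₁ : A₁ ∈ Over (L := L) V) (h₂ : A₂ ∈ Over (L := L) V)
    (hne : A₁ ≠ A₂) :
    ∃ u : L, A₁.valuation u = 1 ∧ A₂.valuation u < 1 ∧
      ∀ A ∈ Over (L := L) V, A.valuation u ≤ 1 := by
  have hnle : ¬ A₂ ≤ A₁ := fun h => hne (le_antisymm (over_incomparable h₂ h₁ h) h)
  obtain ⟨x, hx2, hx1⟩ := SetLike.not_le_iff_exists.mp hnle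
  have hx0 : x ≠ 0 := fun h => hx1 (h ▸ A₁.zero_mem)
  obtain ⟨T, hT⟩ := exists_T (L := L) V x⁻¹ (inv_ne_zero hx0)
  have hv1 : 1 < A₁.valuation x := by
    rw [← not_le, ValuationSubring.valuation_le_one_iff]
    exact hx1
  have hv1' : A₁.valuation x⁻¹ < 1 := by
    rw [map_inv₀]
    exact inv_lt_one_of_one_lt₀ hv1
  have hv2 : A₂.valuation x ≤ 1 := (A₂.valuation_le_one_iff _).mpr hx2
  have hv2pos : 0 < A₂.valuation x := zero_lt_iff.mpr ((Valuation.ne_zero_iff _).mpr hx0)
  have hv2' : 1 ≤ A₂.valuation x⁻¹ := by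
    rw [map_inv₀]
    exact (one_le_inv₀ hv2pos).mpr hv2
  refine ⟨T, (hT A₁ h₁).1 hv1', (hT A₂ h₂).2 hv2', fun A hA => ?_⟩
  rcases lt_or_ge (A.valuation x⁻¹) 1 with h | h
  · exact ((hT A hA).1 h).le
  · exact ((hT A hA).2 h).le

theorem over_card_le [FiniteDimensional K L] (V : ValuationSubring K)
    (s : Finset (ValuationSubring L)) (hs : ∀ A ∈ s, A ∈ Over (L := L) V) :
    s.card ≤ Module.finrank K L := by
  classical
  have hsep : ∀ A₁ A₂ : ValuationSubring L, ∃ u : L, (A₁ ∈ s → A₂ ∈ s → A₁ ≠ A₂ →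
      A₁.valuation u = 1 ∧ A₂.valuation u < 1 ∧
        ∀ A ∈ Over (L := L) V, A.valuation u ≤ 1) := by
    intro A₁ A₂
    by_cases h : A₁ ∈ s ∧ A₂ ∈ s ∧ A₁ ≠ A₂
    · obtain ⟨u, hu⟩ := exists_sep (hs _ h.1) (hs _ h.2.1) h.2.2
      exact ⟨u, fun _ _ _ => hu⟩
    · exact ⟨0, fun h1 h2 h3 => absurd ⟨h1, h2, h3⟩ h⟩
  choose u hu using hsep
  have hb1 : ∀ A ∈ s, A.valuation (∏ A' ∈ s.erase A, u A A') = 1 := by
    intro A hA
    rw [map_prod]
    refine Finset.prod_eq_one fun A' hA' => ?_
    exact (hu A A' hA (Finset.mem_of_mem_erase hA') (Finset.ne_of_mem_erase hA').symm).1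
  have hb2 : ∀ A ∈ s, ∀ A' ∈ s, A ≠ A' →
      A'.valuation (∏ A'' ∈ s.erase A, u A A'') < 1 := by
    intro A hA A' hA' hne
    rw [map_prod]
    have hmem : A' ∈ s.erase A := Finset.mem_erase.mpr ⟨hne.symm, hA'⟩
    rw [← Finset.mul_prod_erase _ _ hmem]
    have h1 : A'.valuation (u A A') < 1 := (hu A A' hA hA' hne).2.1
    have h2 : ∏ x ∈ (s.erase A).erase A', A'.valuation (u A x) ≤ 1 := by
      refine Finset.prod_le_one' fun x hx => ?_
      have hx' := Finset.mem_of_mem_erase hx
      exact (hu A x hA (Finset.mem_of_mem_erase hx') (Finset.ne_of_mem_erase hx').symm).2.2 A'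
        (hs _ hA')
    exact (mul_le_of_le_one_right' h2).trans_lt h1
  have hli : LinearIndependent K (fun A : s => ∏ A' ∈ s.erase A.1, u A.1 A') := by
    rw [Fintype.linearIndependent_iff]
    intro g hg
    by_contra hne
    push Not at hne
    obtain ⟨i₁, hi₁⟩ := hne
    obtain ⟨i₀, -, hmax⟩ := Finset.exists_max_image (Finset.univ : Finset s)
      (fun i => V.valuation (g i)) ⟨i₁, Finset.mem_univ _⟩
    have hg0 : g i₀ ≠ 0 := by
      intro h0
      have h5 := hmax i₁ (Finset.mem_univ _)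
      simp only [h0, map_zero] at h5
      exact hi₁ ((Valuation.zero_iff _).mp (le_antisymm h5 zero_le))
    have hcV : ∀ i, g i / g i₀ ∈ V := fun i => by
      rw [← ValuationSubring.valuation_le_one_iff, map_div₀]
      exact div_le_one_of_le₀ (hmax i (Finset.mem_univ _)) zero_le
    have hA0 := hs _ i₀.2
    have hsum : ∑ i : s, algebraMap K L (g i / g i₀) * (∏ A' ∈ s.erase i.1, u i.1 A') = 0 := by
      have h6 : ∑ i : s, algebraMap K L (g i / g i₀) * (∏ A' ∈ s.erase i.1, u i.1 A') =
          algebraMap K L (g i₀)⁻¹ * ∑ i : s, g i • (∏ A' ∈ s.erase i.1, u i.1 A') := by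
        rw [Finset.mul_sum]
        refine Finset.sum_congr rfl fun i _ => ?_
        rw [Algebra.smul_def, div_eq_mul_inv, map_mul]
        ring
      rw [h6, hg, mul_zero]
    rw [← Finset.add_sum_erase _ _ (Finset.mem_univ i₀), div_self hg0, map_one, one_mul] at hsum
    have h1 : (∏ A' ∈ s.erase i₀.1, u i₀.1 A') = - ∑ i ∈ Finset.univ.erase i₀,
        algebraMap K L (g i / g i₀) * (∏ A' ∈ s.erase i.1, u i.1 A') :=
      eq_neg_of_add_eq_zero_left hsum
    have h2 : i₀.1.valuation (∏ A' ∈ s.erase i₀.1, u i₀.1 A') < 1 := by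
      rw [h1, Valuation.map_neg]
      refine Valuation.map_sum_lt _ one_ne_zero fun i hi => ?_
      have hne : i ≠ i₀ := Finset.ne_of_mem_erase hi
      rw [map_mul]
      have h3 : i₀.1.valuation (algebraMap K L (g i / g i₀)) ≤ 1 :=
        (over_le_one hA0 _).mpr ((V.valuation_le_one_iff _).mpr (hcV i))
      have h4 : i₀.1.valuation (∏ A' ∈ s.erase i.1, u i.1 A') < 1 :=
        hb2 i.1 i.2 i₀.1 i₀.2 (fun h => hne (Subtype.ext h))
      exact (mul_le_of_le_one_left' h3).trans_lt h4
    rw [hb1 i₀.1 i₀.2] at h2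
    exact lt_irrefl _ h2
  have h7 := hli.fintype_card_le_finrank
  simpa using h7

theorem over_finite [FiniteDimensional K L] (V : ValuationSubring K) :
    (Over (L := L) V).Finite := by
  by_contra hinf
  obtain ⟨t, hts, hcard⟩ :=
    Set.Infinite.exists_subset_card_eq (s := Over (L := L) V) hinf (Module.finrank K L + 1)
  have h1 := over_card_le V t (fun A hA => hts hA)
  omega

end Alg

/-- Finitely many valuation subrings of a finite extension of the fraction field of a valuation
ring `R` contain `R` and have centre a given ideal `q` on `R`. -/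
theorem finite_valuationSubring_center {R K L : Type*} [CommRing R] [IsDomain R]
    [ValuationRing R] [Field K] [Field L] [Algebra R K] [IsFractionRing R K]
    (φ : K →+* L) (hφ : φ.Finite) (q : Ideal R) :
    {A : ValuationSubring L | (∀ r : R, φ (algebraMap R K r) ∈ A) ∧
      ∀ r : R, r ∈ q ↔ A.valuation (φ (algebraMap R K r)) < 1}.Finite := by
  let _ : Algebra K L := φ.toAlgebra
  have _ : FiniteDimensional K L := hφ
  have hdet : ∀ A : ValuationSubring L, ((∀ r : R, φ (algebraMap R K r) ∈ A) ∧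
      ∀ r : R, r ∈ q ↔ A.valuation (φ (algebraMap R K r)) < 1) → ∀ x : K,
      (φ x ∈ A ↔ ((∃ r : R, algebraMap R K r = x) ∨
        ∃ c : R, c ∉ q ∧ x * algebraMap R K c = 1)) := by
    rintro A ⟨hA1, hA2⟩ x
    constructor
    · intro hx
      obtain ⟨r, s, hs, rfl⟩ := IsFractionRing.div_surjective (A := R) x
      have hs0 : algebraMap R K s ≠ 0 :=
        IsFractionRing.to_map_ne_zero_of_mem_nonZeroDivisors hs
      obtain ⟨c, hc | hc⟩ := ValuationRing.cond r s
      · right
        have hsc : algebraMap R K s = algebraMap R K r * algebraMap R K c := by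
          rw [← map_mul, hc]
        have hK : algebraMap R K r / algebraMap R K s * algebraMap R K c = 1 := by
          rw [div_mul_eq_mul_div, ← hsc, div_self hs0]
        refine ⟨c, ?_, hK⟩
        intro hcq
        have h1 : A.valuation (φ (algebraMap R K c)) < 1 := (hA2 c).mp hcq
        have h2 : φ (algebraMap R K r / algebraMap R K s) * φ (algebraMap R K c) = 1 := by
          rw [← map_mul, hK, map_one]
        have h3 : A.valuation (φ (algebraMap R K r / algebraMap R K s)) ≤ 1 :=
          (A.valuation_le_one_iff _).mpr hx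
        have h4 := congrArg A.valuation h2
        rw [map_mul, map_one] at h4
        have h5 : A.valuation (φ (algebraMap R K r / algebraMap R K s)) *
            A.valuation (φ (algebraMap R K c)) < 1 :=
          (mul_le_of_le_one_left' h3).trans_lt h1
        rw [h4] at h5
        exact lt_irrefl _ h5
      · left
        refine ⟨c, ?_⟩
        rw [← hc, map_mul, mul_div_cancel_left₀ _ hs0]
    · rintro (⟨r, rfl⟩ | ⟨c, hcq, hxc⟩)
      · exact hA1 r
      · have h1 : ¬ A.valuation (φ (algebraMap R K c)) < 1 := fun h => hcq ((hA2 c).mpr h)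
        have h2 : A.valuation (φ (algebraMap R K c)) ≤ 1 := (A.valuation_le_one_iff _).mpr (hA1 c)
        have h3 : A.valuation (φ (algebraMap R K c)) = 1 := le_antisymm h2 (not_lt.mp h1)
        have h4 := congrArg (fun z => A.valuation (φ z)) hxc
        simp only [map_mul, map_one, h3, mul_one] at h4
        rw [← ValuationSubring.valuation_le_one_iff, h4]
  rcases Set.eq_empty_or_nonempty {A : ValuationSubring L | (∀ r : R, φ (algebraMap R K r) ∈ A) ∧
      ∀ r : R, r ∈ q ↔ A.valuation (φ (algebraMap R K r)) < 1} with h | ⟨A₀, hA₀⟩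
  · rw [h]
    exact Set.finite_empty
  · refine (over_finite (L := L) (A₀.comap φ)).subset fun A hA x => ?_
    rw [ValuationSubring.mem_comap]
    change φ x ∈ A ↔ φ x ∈ A₀
    rw [hdet A hA x, hdet A₀ hA₀ x]

end Groth.Agent.Lib.Helper6.ValFin
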