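import Mathlib
import Groth.Agent.Lib.Helper6.ValFin.VF1
import Groth.Agent.Lib.Helper6.EtLoc.PIPoint

/-!
# A flat proper morphism to the spectrum of a valuation ring with finite generic fibre is finite

Every point of a special fibre is the centre of a valuation subring of the residue field of a point
of the (finite) generic fibre; separatedness makes this assignment injective, and there are only
finitely many such valuation subrings with a given centre on the base.
-/

set_option autoImplicit false
set_option linter.unusedSectionVars false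
set_option linter.unusedVariables false
set_option linter.style.longLine false
set_option linter.style.haveILetI false
set_option maxHeartbeats 800000
set_option synthInstance.maxHeartbeats 400000

universe u

open CategoryTheory CategoryTheory.Limits AlgebraicGeometry IsLocalRing

namespace Groth.Agent.Lib.Helper6.ValFin

section Rel

variable {X Y : Scheme.{u}} (g : X ⟶ Y)

/-- The map `𝒪_{Y,y} → κ(x')` for a specialization `g x' ⤳ y`. -/
noncomputable def phi (x' : X) (y : Y) (h : g x' ⤳ y) :
    Y.presheaf.stalk y ⟶ X.residueField x' :=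
  Y.presheaf.stalkSpecializes h ≫ g.stalkMap x' ≫ X.residue x'

/-- The morphism `Spec A ⟶ Y` attached to a valuation subring `A` of `κ(x')` containing the image
of `𝒪_{Y,y}`. -/
noncomputable def lift (x' : X) (y : Y) (h : g x' ⤳ y)
    (A : ValuationSubring (X.residueField x'))
    (hA : ∀ a, (phi g x' y h).hom a ∈ A.toSubring) : Spec (CommRingCat.of A) ⟶ Y :=
  Spec.map (CommRingCat.ofHom ((phi g x' y h).hom.codRestrict A.toSubring hA)) ≫
    Y.fromSpecStalk y

theorem lift_w (x' : X) (y : Y) (h : g x' ⤳ y) (A : ValuationSubring (X.residueField x'))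
    (hA : ∀ a, (phi g x' y h).hom a ∈ A.toSubring) :
    X.fromSpecResidueField x' ≫ g =
      Spec.map (CommRingCat.ofHom (algebraMap A (X.residueField x'))) ≫ lift g x' y h A hA := by
  unfold lift
  rw [Scheme.fromSpecResidueField, Category.assoc, ← Scheme.SpecMap_stalkMap_fromSpecStalk,
    ← Scheme.SpecMap_stalkSpecializes_fromSpecStalk h]
  simp_rw [← Spec.map_comp_assoc]
  rfl

theorem lift_closedPoint (x' : X) (y : Y) (h : g x' ⤳ y)
    (A : ValuationSubring (X.residueField x'))
    (hA : ∀ a, (phi g x' y h).hom a ∈ A.toSubring)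
    [IsLocalHom ((phi g x' y h).hom.codRestrict A.toSubring hA)] :
    lift g x' y h A hA (closedPoint A) = y := by
  unfold lift
  rw [Scheme.Hom.comp_apply]
  have h1 : Spec.map (CommRingCat.ofHom ((phi g x' y h).hom.codRestrict A.toSubring hA))
      (closedPoint A) = closedPoint (Y.presheaf.stalk y) :=
    comap_closedPoint (S := A) ((phi g x' y h).hom.codRestrict A.toSubring hA)
  rw [h1, Y.fromSpecStalk_closedPoint]

/-- `y` is the centre of the valuation subring `A` of `κ(x')`. -/
def Rel (x' : X) (y : Y) (A : ValuationSubring (X.residueField x')) : Prop :=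
  ∃ (h : g x' ⤳ y) (hA : ∀ a, (phi g x' y h).hom a ∈ A.toSubring),
    IsLocalHom ((phi g x' y h).hom.codRestrict A.toSubring hA)

theorem exists_rel (x' : X) (y : Y) (h : g x' ⤳ y) : ∃ A, Rel g x' y A := by
  obtain ⟨A, hA, hloc⟩ := exists_factor_valuationRing (phi g x' y h).hom
  exact ⟨A, h, hA, hloc⟩

theorem cancel_SpecMap_of_injective {A L R₀ : CommRingCat.{u}} (ι : A ⟶ L)
    (hι : Function.Injective ι.hom) (a b : Spec A ⟶ Spec R₀)
    (h : Spec.map ι ≫ a = Spec.map ι ≫ b) : a = b := by
  obtain ⟨a', rfl⟩ := Spec.map_surjective a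
  obtain ⟨b', rfl⟩ := Spec.map_surjective b
  rw [← Spec.map_comp, ← Spec.map_comp] at h
  have h2 := Spec.map_injective h
  congr 1
  ext r
  apply hι
  exact congrArg (fun m => m.hom r) h2

theorem rel_unique {R₀ : CommRingCat.{u}} (p : Y ⟶ Spec R₀) [IsSeparated p] (x' : X)
    (y₁ y₂ : Y) (A : ValuationSubring (X.residueField x')) (h₁ : Rel g x' y₁ A)
    (h₂ : Rel g x' y₂ A) : y₁ = y₂ := by
  obtain ⟨s1, hA1, hl1⟩ := h₁
  obtain ⟨s2, hA2, hl2⟩ := h₂
  have w₁ := lift_w g x' y₁ s1 A hA1
  have w₂ := lift_w g x' y₂ s2 A hA2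
  have e : lift g x' y₁ s1 A hA1 ≫ p = lift g x' y₂ s2 A hA2 ≫ p := by
    apply cancel_SpecMap_of_injective (CommRingCat.ofHom (algebraMap A (X.residueField x')))
    · exact Subtype.val_injective
    · rw [← Category.assoc, ← w₁, ← Category.assoc, ← w₂]
  let S : ValuativeCommSq p :=
    { R := A
      K := X.residueField x'
      i₁ := X.fromSpecResidueField x' ≫ g
      i₂ := lift g x' y₁ s1 A hA1 ≫ p
      commSq := ⟨by rw [w₁, Category.assoc]⟩ }
  have hsub : Subsingleton S.commSq.LiftStruct := IsSeparated.valuativeCriterion p S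
  let L1 : S.commSq.LiftStruct := ⟨lift g x' y₁ s1 A hA1, w₁.symm, rfl⟩
  let L2 : S.commSq.LiftStruct := ⟨lift g x' y₂ s2 A hA2, w₂.symm, e.symm⟩
  have hl : lift g x' y₁ s1 A hA1 = lift g x' y₂ s2 A hA2 :=
    congrArg CommSq.LiftStruct.l (Subsingleton.elim L1 L2)
  calc y₁ = lift g x' y₁ s1 A hA1 (closedPoint A) := (lift_closedPoint g x' y₁ s1 A hA1).symm
    _ = lift g x' y₂ s2 A hA2 (closedPoint A) := by rw [hl]
    _ = y₂ := lift_closedPoint g x' y₂ s2 A hA2

end Rel

section Main

variable {R K : Type u} [CommRing R] [IsDomain R] [ValuationRing R] [Field K] [Algebra R K]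
  [IsFractionRing R K] {Y : Scheme.{u}} (f : Y ⟶ Spec (CommRingCat.of R))

theorem finite_specializations [IsSeparated f]
    (hgen : IsFinite (pullback.snd f (Spec.map (CommRingCat.ofHom (algebraMap R K)))))
    (z : ↑(pullback f (Spec.map (CommRingCat.ofHom (algebraMap R K)))))
    (s : Spec (CommRingCat.of R)) :
    {y : Y | f y = s ∧
      pullback.fst f (Spec.map (CommRingCat.ofHom (algebraMap R K))) z ⤳ y}.Finite := by
  classical
  haveI : IsFinite (pullback.snd f (Spec.map (CommRingCat.ofHom (algebraMap R K)))) := hgen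
  have hqf : (pullback.snd f (Spec.map (CommRingCat.ofHom (algebraMap R K)))).QuasiFiniteAt z :=
    Scheme.Hom.quasiFiniteAt _ z
  have hres : ((pullback.snd f
      (Spec.map (CommRingCat.ofHom (algebraMap R K)))).residueFieldMap z).hom.Finite :=
    EtLoc.finite_residueFieldMap_of_quasiFiniteAt _ z hqf
  haveI h1 : IsFinite (Spec.map ((pullback.snd f
      (Spec.map (CommRingCat.ofHom (algebraMap R K)))).residueFieldMap z)) :=
    (IsFinite.SpecMap_iff _).mpr hres
  have hcl : IsClosed ({(pullback.snd f (Spec.map (CommRingCat.ofHom (algebraMap R K)))) z} :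
      Set (Spec (CommRingCat.of K))) := by
    refine (PrimeSpectrum.isClosed_singleton_iff_isMaximal _).mpr ?_
    have h0 : ((pullback.snd f (Spec.map (CommRingCat.ofHom (algebraMap R K)))) z).asIdeal = ⊥ :=
      Ideal.eq_bot_of_prime _
    rw [h0]
    exact Ideal.bot_isMaximal
  haveI h2 : IsClosedImmersion ((Spec (CommRingCat.of K)).fromSpecResidueField
      ((pullback.snd f (Spec.map (CommRingCat.ofHom (algebraMap R K)))) z)) :=
    isClosed_singleton_iff_isClosedImmersion.mp hcl
  have hfinK : IsFinite
      ((pullback f (Spec.map (CommRingCat.ofHom (algebraMap R K)))).fromSpecResidueField z ≫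
        pullback.snd f (Spec.map (CommRingCat.ofHom (algebraMap R K)))) := by
    rw [← Scheme.Hom.SpecMap_residueFieldMap_fromSpecResidueField]
    infer_instance
  have hφK : Spec.map (Spec.preimage
      ((pullback f (Spec.map (CommRingCat.ofHom (algebraMap R K)))).fromSpecResidueField z ≫
        pullback.snd f (Spec.map (CommRingCat.ofHom (algebraMap R K))))) =
      (pullback f (Spec.map (CommRingCat.ofHom (algebraMap R K)))).fromSpecResidueField z ≫
        pullback.snd f (Spec.map (CommRingCat.ofHom (algebraMap R K))) := Spec.map_preimage _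
  generalize Spec.preimage
      ((pullback f (Spec.map (CommRingCat.ofHom (algebraMap R K)))).fromSpecResidueField z ≫
        pullback.snd f (Spec.map (CommRingCat.ofHom (algebraMap R K)))) = φK at hφK
  have hφfin : φK.hom.Finite := by
    rw [← IsFinite.SpecMap_iff, hφK]
    exact hfinK
  have h𝒲 := finite_valuationSubring_center (R := R) (K := K) φK.hom hφfin s.asIdeal
  refine (Set.Finite.biUnion h𝒲 (t := fun A => {y : Y | Rel (pullback.fst f
    (Spec.map (CommRingCat.ofHom (algebraMap R K)))) z y A}) (fun A _ => ?_)).subset ?_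
  · exact Set.Subsingleton.finite (fun y₁ h₁ y₂ h₂ => rel_unique _ f z y₁ y₂ A h₁ h₂)
  · rintro y ⟨hy, hspec⟩
    obtain ⟨A, hA⟩ := exists_rel _ z y hspec
    refine Set.mem_biUnion (x := A) ?_ hA
    obtain ⟨hsp, hAm, hloc⟩ := hA
    haveI := hloc
    have w := lift_w _ z y hsp A hAm
    have hθ : Spec.map (Spec.preimage (lift _ z y hsp A hAm ≫ f)) = lift _ z y hsp A hAm ≫ f :=
      Spec.map_preimage _
    generalize Spec.preimage (lift _ z y hsp A hAm ≫ f) = θ at hθ
    have hcomp : θ ≫ CommRingCat.ofHom (algebraMap A
        ((pullback f (Spec.map (CommRingCat.ofHom (algebraMap R K)))).residueField z)) =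
        CommRingCat.ofHom (algebraMap R K) ≫ φK := by
      apply Spec.map_injective
      rw [Spec.map_comp, Spec.map_comp, hθ, hφK]
      calc Spec.map (CommRingCat.ofHom (algebraMap A
            ((pullback f (Spec.map (CommRingCat.ofHom (algebraMap R K)))).residueField z))) ≫
            lift _ z y hsp A hAm ≫ f
          = (Spec.map (CommRingCat.ofHom (algebraMap A
            ((pullback f (Spec.map (CommRingCat.ofHom (algebraMap R K)))).residueField z))) ≫
            lift _ z y hsp A hAm) ≫ f := (Category.assoc _ _ _).symm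
        _ = ((pullback f (Spec.map (CommRingCat.ofHom
              (algebraMap R K)))).fromSpecResidueField z ≫
            pullback.fst f (Spec.map (CommRingCat.ofHom (algebraMap R K)))) ≫ f := by rw [← w]
        _ = (pullback f (Spec.map (CommRingCat.ofHom
              (algebraMap R K)))).fromSpecResidueField z ≫
            pullback.fst f (Spec.map (CommRingCat.ofHom (algebraMap R K))) ≫ f :=
          Category.assoc _ _ _
        _ = (pullback f (Spec.map (CommRingCat.ofHom
              (algebraMap R K)))).fromSpecResidueField z ≫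
            pullback.snd f (Spec.map (CommRingCat.ofHom (algebraMap R K))) ≫
            Spec.map (CommRingCat.ofHom (algebraMap R K)) := by rw [pullback.condition]
        _ = _ := (Category.assoc _ _ _).symm
    have hval : ∀ r : R, φK.hom (algebraMap R K r) =
        ((θ.hom r : A) : (pullback f
          (Spec.map (CommRingCat.ofHom (algebraMap R K)))).residueField z) := fun r =>
      (congrArg (fun m => m.hom r) hcomp).symm
    have hcp : Spec.map θ (closedPoint A) = s := by
      rw [hθ, Scheme.Hom.comp_apply, lift_closedPoint _ z y hsp A hAm, hy]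
    refine ⟨fun r => ?_, fun r => ?_⟩
    · rw [hval]
      exact (θ.hom r).2
    · rw [hval, ← ValuationSubring.valuation_lt_one_iff, ← hcp]
      rfl

theorem isFinite_of_flat_proper_of_valuationRing [Flat f] [IsProper f]
    (hgen : IsFinite (pullback.snd f (Spec.map (CommRingCat.ofHom (algebraMap R K))))) :
    IsFinite f := by
  haveI : IsFinite (pullback.snd f (Spec.map (CommRingCat.ofHom (algebraMap R K)))) := hgen
  suffices h : ∀ s, (f ⁻¹' {s}).Finite by
    haveI := LocallyQuasiFinite.of_finite_preimage_singleton f h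
    exact IsFinite.of_isProper_of_locallyQuasiFinite f
  intro s
  have hYK : Finite ↑(pullback f (Spec.map (CommRingCat.ofHom (algebraMap R K)))) := by
    rcases isEmpty_or_nonempty ↑(pullback f (Spec.map (CommRingCat.ofHom (algebraMap R K))))
      with h | ⟨⟨z₀⟩⟩
    · infer_instance
    · have h1 := (pullback.snd f
        (Spec.map (CommRingCat.ofHom (algebraMap R K)))).finite_preimage_singleton
        ((pullback.snd f (Spec.map (CommRingCat.ofHom (algebraMap R K)))) z₀)
      have huniv : (pullback.snd f (Spec.map (CommRingCat.ofHom (algebraMap R K)))) ⁻¹'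
          {(pullback.snd f (Spec.map (CommRingCat.ofHom (algebraMap R K)))) z₀} = Set.univ := by
        ext z
        simp only [Set.mem_preimage, Set.mem_singleton_iff, Set.mem_univ, iff_true]
        refine PrimeSpectrum.ext ?_
        exact (Ideal.eq_bot_of_prime _).trans (Ideal.eq_bot_of_prime _).symm
      rw [huniv] at h1
      exact Set.finite_univ_iff.mp h1
  have hsub : f ⁻¹' {s} ⊆ ⋃ z ∈ (Set.univ :
      Set ↑(pullback f (Spec.map (CommRingCat.ofHom (algebraMap R K))))),
      {y : Y | f y = s ∧
        pullback.fst f (Spec.map (CommRingCat.ofHom (algebraMap R K))) z ⤳ y} := by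
    intro y hy
    have hy' : f y = s := hy
    have hspec : (Spec.map (CommRingCat.ofHom (algebraMap R K))) (closedPoint K) ⤳ f y := by
      refine (PrimeSpectrum.le_iff_specializes _ _).mp ?_
      change PrimeSpectrum.asIdeal _ ≤ PrimeSpectrum.asIdeal _
      intro r hr
      have h0 : algebraMap R K r ∈ (closedPoint K).asIdeal := hr
      rw [Ideal.eq_bot_of_prime (closedPoint K).asIdeal, Ideal.mem_bot] at h0
      have hr0 : r = 0 := (IsFractionRing.injective R K) (by rw [h0, map_zero])
      rw [hr0]
      exact Ideal.zero_mem _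
    obtain ⟨y', hy'spec, hfy'⟩ := Flat.generalizingMap f hspec
    have hrange : y' ∈ Set.range (pullback.fst f
        (Spec.map (CommRingCat.ofHom (algebraMap R K)))) := by
      rw [Scheme.Pullback.range_fst]
      exact ⟨closedPoint K, hfy'.symm⟩
    obtain ⟨z, rfl⟩ := hrange
    exact Set.mem_biUnion (Set.mem_univ z) ⟨hy', hy'spec⟩
  exact (Set.Finite.biUnion Set.finite_univ
    (fun z _ => finite_specializations f hgen z s)).subset hsub

end Main

end Groth.Agent.Lib.Helper6.ValFin
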